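import Groth.Agent.GeomRedFieldLib.Scheme
import Groth.Agent.FlatLib.SmoothSource
import Groth.Agent.NormFin.Field
import Groth.Agent.CohenLib.Normalization

/-!
# Normalizations of one-dimensional algebras become smooth after a finite purely inseparable extension
-/

set_option autoImplicit false
set_option linter.style.haveILetI false
universe u

open TensorProduct

noncomputable section

namespace InsepNormLib

open GeomRedFieldLib

variable {k : Type u} [Field k] (P : Type u) [Field P] [Algebra k P] [IsPurelyInseparable k P]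
  (A : Type u) [CommRing A] [IsDomain A] [Algebra k A]

theorem exists_pow_mem_range (z : P ⊗[k] A) :
    ∃ n : ℕ, 0 < n ∧ z ^ n ∈ Set.range (Algebra.TensorProduct.includeRight : A →ₐ[k] P ⊗[k] A) := by
  let q := ringExpChar k
  have hinj : Function.Injective (Algebra.TensorProduct.includeRight : A →ₐ[k] P ⊗[k] A) :=
    Algebra.TensorProduct.includeRight_injective (algebraMap k P).injective
  haveI : Nontrivial (P ⊗[k] A) := hinj.nontrivial
  haveI : ExpChar (P ⊗[k] A) q := expChar_of_injective_ringHom (algebraMap k (P ⊗[k] A)).injective q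
  suffices h : ∃ m : ℕ, z ^ q ^ m ∈ (Algebra.TensorProduct.includeRight : A →ₐ[k] P ⊗[k] A).range from by
    obtain ⟨m, hm⟩ := h
    exact ⟨q ^ m, pow_pos (expChar_pos k q) m, hm⟩
  have hmono : ∀ (x : P ⊗[k] A) (m m' : ℕ), m ≤ m' → x ^ q ^ m ∈ (Algebra.TensorProduct.includeRight : A →ₐ[k] P ⊗[k] A).range →
      x ^ q ^ m' ∈ (Algebra.TensorProduct.includeRight : A →ₐ[k] P ⊗[k] A).range := fun x m m' h hx => by
    rw [← Nat.add_sub_cancel' h, pow_add, pow_mul]
    exact Subalgebra.pow_mem _ hx _
  induction z using TensorProduct.induction_on with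
  | zero => exact ⟨0, by simp [zero_pow]⟩
  | tmul a b =>
    obtain ⟨m, c, hc⟩ := IsPurelyInseparable.pow_mem k q a
    refine ⟨m, c • b ^ q ^ m, ?_⟩
    rw [Algebra.TensorProduct.tmul_pow, ← hc, Algebra.algebraMap_eq_smul_one, TensorProduct.smul_tmul]
    rfl
  | add x y hx hy =>
    obtain ⟨m, hx⟩ := hx
    obtain ⟨m', hy⟩ := hy
    refine ⟨max m m', ?_⟩
    rw [add_pow_expChar_pow]
    exact Subalgebra.add_mem _ (hmono x m _ (le_max_left _ _) hx) (hmono y m' _ (le_max_right _ _) hy)

theorem isPrime_nilradical : (nilradical (P ⊗[k] A)).IsPrime := by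
  have hinj : Function.Injective (Algebra.TensorProduct.includeRight : A →ₐ[k] P ⊗[k] A) :=
    Algebra.TensorProduct.includeRight_injective (algebraMap k P).injective
  haveI : Nontrivial (P ⊗[k] A) := hinj.nontrivial
  refine ⟨fun h => ?_, fun {x y} hxy => ?_⟩
  · exact not_isNilpotent_one (mem_nilradical.1 (h ▸ Submodule.mem_top : (1 : P ⊗[k] A) ∈ nilradical (P ⊗[k] A)))
  obtain ⟨n, hn, a, ha⟩ := exists_pow_mem_range P A x
  obtain ⟨n', hn', b, hb⟩ := exists_pow_mem_range P A y
  have h1 : IsNilpotent (a ^ n' * b ^ n) := by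
    refine (IsNilpotent.map_iff hinj).1 ?_
    rw [map_mul, map_pow, map_pow]
    erw [ha, hb]
    rw [← pow_mul, ← pow_mul, mul_comm n' n, ← mul_pow]
    exact (mem_nilradical.1 hxy).pow_of_pos (Nat.mul_ne_zero hn.ne' hn'.ne')
  rcases mul_eq_zero.1 h1.eq_zero with h | h
  · refine Or.inl (mem_nilradical.2 ⟨n, ?_⟩)
    rw [← ha, (pow_eq_zero_iff hn'.ne').1 h]
    exact map_zero (Algebra.TensorProduct.includeRight : A →ₐ[k] P ⊗[k] A)
  · refine Or.inr (mem_nilradical.2 ⟨n', ?_⟩)
    rw [← hb, (pow_eq_zero_iff hn.ne').1 h]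
    exact map_zero (Algebra.TensorProduct.includeRight : A →ₐ[k] P ⊗[k] A)

variable [Algebra.FiniteType k A] [Ring.KrullDimLE 1 A] [PerfectField P]

/-- The reduction over the perfect closure. -/
abbrev Red : Type u := (P ⊗[k] A) ⧸ nilradical (P ⊗[k] A)

instance : IsDomain (Red (k := k) P A) := (Ideal.Quotient.isDomain_iff_prime _).2 (isPrime_nilradical P A)

omit [Algebra.FiniteType k A] [PerfectField P] in
theorem krullDimLE_red : Ring.KrullDimLE 1 (Red (k := k) P A) := by
  let j : A →+* Red (k := k) P A := (Ideal.Quotient.mk _).comp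
    (Algebra.TensorProduct.includeRight : A →ₐ[k] P ⊗[k] A).toRingHom
  letI : Algebra A (Red (k := k) P A) := j.toAlgebra
  haveI : Algebra.IsIntegral A (Red (k := k) P A) := ⟨fun z => by
    obtain ⟨z, rfl⟩ := Ideal.Quotient.mk_surjective z
    obtain ⟨n, hn, a, ha⟩ := exists_pow_mem_range P A z
    refine IsIntegral.of_pow hn ?_
    rw [← map_pow, ← ha]
    exact isIntegral_algebraMap⟩
  rw [Ring.krullDimLE_iff]
  exact (CohenLib.ringKrullDim_le_of_isIntegral A _).trans (Ring.krullDimLE_iff.1 ‹_›)

theorem smooth_integralClosure_red :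
    Module.Finite (Red (k := k) P A) (integralClosure (Red (k := k) P A) (FractionRing (Red (k := k) P A))) ∧
      Algebra.Smooth P (integralClosure (Red (k := k) P A) (FractionRing (Red (k := k) P A))) := by
  let T := Red (k := k) P A
  let F := FractionRing T
  let B := integralClosure T F
  haveI : Algebra.FiniteType P T := inferInstance
  haveI hfin : Module.Finite T B := NormFinLib.finite_integralClosure_of_finiteType_field P T F F
  haveI : IsNoetherianRing T := Algebra.FiniteType.isNoetherianRing P T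
  haveI : IsNoetherianRing B := isNoetherian_of_tower T inferInstance
  haveI : Ring.KrullDimLE 1 T := krullDimLE_red P A
  haveI : Algebra.IsIntegral T B := Algebra.IsIntegral.of_finite T B
  haveI : IsIntegrallyClosed B := integralClosure.isIntegrallyClosedOfFiniteExtension F
  haveI : Ring.KrullDimLE 1 B :=
    Ring.krullDimLE_iff.2 ((CohenLib.ringKrullDim_le_of_isIntegral T B).trans (Ring.krullDimLE_iff.1 ‹_›))
  haveI : Ring.DimensionLEOne B := ⟨fun {p} hp hpp => hpp.isMaximal_of_ne_bot hp⟩
  haveI : IsDedekindDomain B := { }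
  haveI : Algebra.FiniteType P B :=
    Algebra.FiniteType.trans (‹Algebra.FiniteType P T›) (Module.Finite.finiteType B : Algebra.FiniteType T B)
  exact ⟨hfin, FlatLib.smooth_of_isRegularRing_of_perfectField P B⟩

variable {C : Type u} [Field C] [Algebra k C] [Algebra C P] [IsScalarTower k C P]

omit [PerfectField P] [Algebra.FiniteType k A] [Ring.KrullDimLE 1 A] [IsDomain A] [IsPurelyInseparable k P] in
theorem exists_map_red {T : Type u} [CommRing T] [Algebra C T]
    (φ : (C ⊗[k] A) →ₐ[C] T) (hφ : Function.Surjective φ) (hker : RingHom.ker φ = nilradical (C ⊗[k] A)) :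
    ∃ j : T →ₐ[C] Red (k := k) P A, Function.Injective j ∧
      ∀ z, j (φ z) = Ideal.Quotient.mk _ (incl (k := k) P C A z) := by
  let g : (C ⊗[k] A) →ₐ[C] Red (k := k) P A :=
    { toRingHom := (Ideal.Quotient.mk (nilradical (P ⊗[k] A))).comp (incl (k := k) P C A).toRingHom
      commutes' := fun c => congrArg (Ideal.Quotient.mk _)
        (Algebra.TensorProduct.map_tmul (IsScalarTower.toAlgHom k C P) (AlgHom.id k A) c 1) }
  have hg : ∀ z, g z = Ideal.Quotient.mk _ (incl (k := k) P C A z) := fun z => rfl
  have hkg : RingHom.ker g = nilradical (C ⊗[k] A) := by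
    ext z
    rw [RingHom.mem_ker, hg, Ideal.Quotient.eq_zero_iff_mem, mem_nilradical, mem_nilradical,
      IsNilpotent.map_iff (incl_injective P C A)]
  refine ⟨AlgHom.liftOfSurjective φ hφ g (hker.trans hkg.symm).le, ?_, fun z => ?_⟩
  · intro x y hxy
    obtain ⟨x, rfl⟩ := hφ x
    obtain ⟨y, rfl⟩ := hφ y
    rw [AlgHom.liftOfSurjective_apply, AlgHom.liftOfSurjective_apply] at hxy
    have h1 : x - y ∈ RingHom.ker g := by rw [RingHom.mem_ker, map_sub, hxy, sub_self]
    rw [hkg, ← hker, RingHom.mem_ker, map_sub, sub_eq_zero] at h1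
    exact h1
  · exact (AlgHom.liftOfSurjective_apply φ hφ g (hker.trans hkg.symm).le z).trans (hg z)

set_option maxHeartbeats 1000000 in
/-- At a good level at which generators of the normalization are defined, the normalization is smooth. -/
theorem smooth_of_level (hgood : Good (k := k) P C A) {n : ℕ}
    (b : Fin n → integralClosure (Red (k := k) P A) (FractionRing (Red (k := k) P A)))
    (hb : Submodule.span (Red (k := k) P A) (Set.range b) = ⊤) (u₀ v₀ : Fin n → P ⊗[k] A)
    (huv : ∀ i, algebraMap (Red (k := k) P A) (FractionRing (Red (k := k) P A)) (Ideal.Quotient.mk _ (u₀ i)) /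
      algebraMap (Red (k := k) P A) (FractionRing (Red (k := k) P A)) (Ideal.Quotient.mk _ (v₀ i)) = b i)
    (hlu : ∀ i, ∃ w, incl (k := k) P C A w = u₀ i) (hlv : ∀ i, ∃ w, incl (k := k) P C A w = v₀ i)
    (T : Type u) [CommRing T] [Algebra C T] (φ : (C ⊗[k] A) →ₐ[C] T) (hφ : Function.Surjective φ)
    (hker : RingHom.ker φ = nilradical (C ⊗[k] A)) : IsDomain T ∧
      ∀ (K : Type u) [Field K] [Algebra T K] [IsFractionRing T K] [Algebra C K] [IsScalarTower C T K],
        Algebra.Smooth C (integralClosure T K) := by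
  let R := Red (k := k) P A
  let F := FractionRing R
  let B := integralClosure R F
  obtain ⟨hfin, hsm⟩ := smooth_integralClosure_red (k := k) P A
  obtain ⟨j, hj, hjφ⟩ := exists_map_red P A φ hφ hker
  haveI : IsDomain T := hj.isDomain j.toRingHom
  letI : Algebra k T := ((algebraMap C T).comp (algebraMap k C)).toAlgebra
  haveI : IsScalarTower k C T := IsScalarTower.of_algebraMap_eq fun _ => rfl
  refine ⟨inferInstance, fun K _ _ _ _ _ => ?_⟩
  haveI : Algebra.IsAlgebraic C P := Algebra.IsAlgebraic.tower_top (K := k) C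
  -- `P ⊗ T` is the reduction
  let τ : P ⊗[C] T →ₐ[P] R := Algebra.TensorProduct.lift (Algebra.ofId P R) j (fun _ _ => Commute.all _ _)
  have hτ : ∀ p t, τ (p ⊗ₜ t) = algebraMap P R p * j t := fun p t => Algebra.TensorProduct.lift_tmul _ _ _ p t
  haveI hgr : Algebra.IsGeometricallyReduced C T := by
    haveI := hgood.isGeometricallyReduced
    let l : ((C ⊗[k] A) ⧸ nilradical (C ⊗[k] A)) →ₐ[C] T :=
      Ideal.Quotient.liftₐ _ φ fun a ha => RingHom.mem_ker.1 (hker.ge ha)
    have hl : Function.Bijective l := ⟨(injective_iff_map_eq_zero l).2 fun z hz => by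
        obtain ⟨z, rfl⟩ := Ideal.Quotient.mk_surjective z
        exact Ideal.Quotient.eq_zero_iff_mem.2 (hker.le (RingHom.mem_ker.2 hz)), fun t => by
        obtain ⟨z, rfl⟩ := hφ t
        exact ⟨Ideal.Quotient.mk _ z, rfl⟩⟩
    let e' : ((C ⊗[k] A) ⧸ nilradical (C ⊗[k] A)) ≃ₐ[C] T := AlgEquiv.ofBijective l hl
    exact isGeometricallyReduced_congr e'
  haveI : IsReduced (P ⊗[C] T) := by
    haveI := isReduced_tensor_geomRed (k := C) T P
    exact isReduced_of_injective (Algebra.TensorProduct.comm C P T) (AlgEquiv.injective _)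
  let π : P ⊗[k] A →ₐ[P] P ⊗[C] T :=
    Algebra.TensorProduct.lift (Algebra.ofId P _)
      (((Algebra.TensorProduct.includeRight : T →ₐ[C] P ⊗[C] T).restrictScalars k).comp
        ((φ.restrictScalars k).comp Algebra.TensorProduct.includeRight))
      (fun _ _ => Commute.all _ _)
  have hπ : ∀ z, π (incl (k := k) P C A z) = 1 ⊗ₜ φ z := fun z => by
    induction z using TensorProduct.induction_on with
    | zero => simp
    | add a b ha hb => simp only [map_add, ha, hb, TensorProduct.tmul_add]
    | tmul c a =>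
      show π ((algebraMap C P c) ⊗ₜ a) = 1 ⊗ₜ φ (c ⊗ₜ a)
      rw [show (c : C) ⊗ₜ[k] a = c • ((1 : C) ⊗ₜ[k] a) by rw [TensorProduct.smul_tmul', smul_eq_mul, mul_one],
        map_smul, TensorProduct.tmul_smul, TensorProduct.smul_tmul', Algebra.smul_def, mul_one]
      refine (Algebra.TensorProduct.lift_tmul _ _ _ _ _).trans ?_
      show ((algebraMap C P c) ⊗ₜ[C] (1 : T)) * ((1 : P) ⊗ₜ[C] φ ((1 : C) ⊗ₜ[k] a)) = _
      rw [Algebra.TensorProduct.tmul_mul_tmul, mul_one, one_mul]
  let σ : R →ₐ[P] P ⊗[C] T := Ideal.Quotient.liftₐ _ π fun a ha => (((mem_nilradical.1 ha).map π).eq_zero)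
  have hσj : ∀ t, σ (j t) = 1 ⊗ₜ t := fun t => by
    obtain ⟨z, rfl⟩ := hφ t
    rw [hjφ]
    exact hπ z
  have hτinj : Function.Injective τ := by
    refine Function.LeftInverse.injective (g := σ) fun z => ?_
    induction z using TensorProduct.induction_on with
    | zero => simp
    | add a b ha hb => simp only [map_add, ha, hb]
    | tmul p t =>
      rw [hτ, map_mul, AlgHom.commutes, hσj, Algebra.TensorProduct.algebraMap_apply,
        Algebra.TensorProduct.tmul_mul_tmul, mul_one, one_mul]
      rfl
  have hτsurj : Function.Surjective τ := fun z => by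
    obtain ⟨z, rfl⟩ := Ideal.Quotient.mk_surjective z
    induction z using TensorProduct.induction_on with
    | zero => exact ⟨0, by simp⟩
    | add a b ha hb =>
      obtain ⟨x, hx⟩ := ha
      obtain ⟨y, hy⟩ := hb
      exact ⟨x + y, by rw [map_add, map_add, hx, hy]⟩
    | tmul p a =>
      refine ⟨p ⊗ₜ φ (1 ⊗ₜ a), ?_⟩
      rw [hτ, hjφ, IsScalarTower.algebraMap_apply P (P ⊗[k] A) R]
      show Ideal.Quotient.mk _ _ * Ideal.Quotient.mk _ (_ ⊗ₜ _) = _
      rw [← map_mul, Algebra.TensorProduct.algebraMap_apply, Algebra.TensorProduct.tmul_mul_tmul]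
      simp
  -- the function fields
  let jK : K →+* F := IsFractionRing.lift (g := (algebraMap R F).comp j.toRingHom)
    ((IsFractionRing.injective R F).comp hj)
  have hjK : ∀ t, jK (algebraMap T K t) = algebraMap R F (j t) := fun t => IsFractionRing.lift_algebraMap _ t
  let N := integralClosure T K
  letI : Algebra T R := j.toRingHom.toAlgebra
  haveI : IsScalarTower C T R := IsScalarTower.of_algebraMap_eq fun c => (j.commutes c).symm
  haveI : Algebra.IsIntegral T R := ⟨fun z => by
    obtain ⟨z, rfl⟩ := hτsurj z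
    induction z using TensorProduct.induction_on with
    | zero => rw [map_zero]; exact isIntegral_zero
    | add a b ha hb => rw [map_add]; exact ha.add hb
    | tmul p t =>
      rw [hτ]
      refine IsIntegral.mul ?_ (isIntegral_algebraMap (x := t))
      exact ((Algebra.IsIntegral.isIntegral (R := C) p).map (IsScalarTower.toAlgHom C P R)).tower_top⟩
  let jKa : K →ₐ[T] F :=
    { jK with commutes' := fun t => (hjK t).trans (IsScalarTower.algebraMap_apply T R F t).symm }
  have hjC : ∀ c : C, jK (algebraMap C K c) = algebraMap C F c := fun c => by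
    rw [IsScalarTower.algebraMap_apply C T K, hjK, j.commutes, ← IsScalarTower.algebraMap_apply]
  let ν : N →ₐ[C] F :=
    { toRingHom := jK.comp N.val.toRingHom
      commutes' := fun c => hjC c }
  let Φ : P ⊗[C] N →ₐ[P] F := Algebra.TensorProduct.lift (Algebra.ofId P F) ν (fun _ _ => Commute.all _ _)
  have hΦ : ∀ p x, Φ (p ⊗ₜ x) = algebraMap P F p * jK x.1 := fun p x => Algebra.TensorProduct.lift_tmul _ _ _ p x
  have hΦB : ∀ z, Φ z ∈ B := fun z => by
    induction z using TensorProduct.induction_on with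
    | zero => rw [map_zero]; exact B.zero_mem
    | add a b ha hb => rw [map_add]; exact B.add_mem ha hb
    | tmul p x =>
      rw [hΦ, IsScalarTower.algebraMap_apply P R F]
      exact B.mul_mem (B.algebraMap_mem _) ((IsIntegral.map jKa x.2).tower_top)
  have hgen : ∀ i, (b i : F) ∈ Φ.range := fun i => by
    obtain ⟨u', hu'⟩ := hlu i
    obtain ⟨v', hv'⟩ := hlv i
    have hju : j (φ u') = Ideal.Quotient.mk _ (u₀ i) := by rw [hjφ, hu']
    have hjv : j (φ v') = Ideal.Quotient.mk _ (v₀ i) := by rw [hjφ, hv']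
    let x : K := algebraMap T K (φ u') / algebraMap T K (φ v')
    have hx : jK x = b i := by rw [map_div₀, hjK, hjK, hju, hjv]; exact huv i
    have hxint : IsIntegral T x := by
      rw [← isIntegral_algHom_iff jKa jKa.toRingHom.injective]
      show IsIntegral T (jK x)
      rw [hx]
      exact isIntegral_trans (A := R) _ (b i).2
    exact ⟨1 ⊗ₜ ⟨x, hxint⟩, by show Φ _ = _; rw [hΦ, map_one, one_mul]; exact hx⟩
  have hΦsurj : ∀ z ∈ B, z ∈ Φ.range := fun z hz => by
    have hR : ∀ r : R, algebraMap R F r ∈ Φ.range := fun r => by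
      obtain ⟨w, rfl⟩ := hτsurj r
      induction w using TensorProduct.induction_on with
      | zero => rw [map_zero, map_zero]; exact Φ.range.zero_mem
      | add a b ha hb => rw [map_add, map_add]; exact Φ.range.add_mem ha hb
      | tmul p t =>
        refine ⟨p ⊗ₜ ⟨algebraMap T K t, isIntegral_algebraMap⟩, ?_⟩
        show Φ _ = _
        rw [hΦ, hτ, map_mul, ← IsScalarTower.algebraMap_apply]
        exact congrArg (_ * ·) (hjK t)
    have h1 : (⟨z, hz⟩ : B) ∈ Submodule.span R (Set.range b) := by rw [hb]; trivial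
    suffices H : ∀ y : B, y ∈ Submodule.span R (Set.range b) → (y : F) ∈ Φ.range from H _ h1
    intro y hy
    induction hy using Submodule.span_induction with
    | mem y hy => obtain ⟨i, rfl⟩ := hy; exact hgen i
    | zero => exact Φ.range.zero_mem
    | add y y' _ _ h h' => exact Φ.range.add_mem h h'
    | smul r y _ h =>
      rw [SetLike.val_smul, Algebra.smul_def]
      exact Φ.range.mul_mem (hR r) h
  -- injectivity
  have hclear : ∀ z : P ⊗[C] N, ∃ t : T, t ≠ 0 ∧ ∃ w : P ⊗[C] T,
      ((1 : P) ⊗ₜ[C] (algebraMap T N t)) * z =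
        Algebra.TensorProduct.map (AlgHom.id P P) (IsScalarTower.toAlgHom C T N) w := fun z => by
    induction z using TensorProduct.induction_on with
    | zero => exact ⟨1, one_ne_zero, 0, by simp⟩
    | add a b ha hb =>
      obtain ⟨s, hs, w, hw⟩ := ha
      obtain ⟨s', hs', w', hw'⟩ := hb
      refine ⟨s * s', mul_ne_zero hs hs', ((1 : P) ⊗ₜ[C] s') * w + ((1 : P) ⊗ₜ[C] s) * w', ?_⟩
      have hm : ∀ t : T, Algebra.TensorProduct.map (AlgHom.id P P) (IsScalarTower.toAlgHom C T N) ((1 : P) ⊗ₜ[C] t) =
          (1 : P) ⊗ₜ[C] algebraMap T N t := fun t => Algebra.TensorProduct.map_tmul _ _ _ _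
      simp only [map_add, map_mul, hm, ← hw, ← hw']
      rw [show (1 : P) ⊗ₜ[C] (algebraMap T N s * algebraMap T N s') =
        ((1 : P) ⊗ₜ[C] algebraMap T N s) * ((1 : P) ⊗ₜ[C] algebraMap T N s') by
          rw [Algebra.TensorProduct.tmul_mul_tmul, one_mul]]
      ring
    | tmul p x =>
      obtain ⟨a, s, hs, hx⟩ := IsFractionRing.div_surjective T (x : K)
      refine ⟨s, nonZeroDivisors.ne_zero hs, p ⊗ₜ a, ?_⟩
      rw [Algebra.TensorProduct.map_tmul, Algebra.TensorProduct.tmul_mul_tmul, one_mul]
      refine congrArg (p ⊗ₜ[C] ·) (Subtype.ext ?_)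
      show algebraMap T K s * (x : K) = algebraMap T K a
      rw [← hx, mul_div_cancel₀]
      exact IsFractionRing.to_map_ne_zero_of_mem_nonZeroDivisors hs
  have hΦinj : Function.Injective Φ := (injective_iff_map_eq_zero Φ).2 fun z hz => by
    obtain ⟨s, hs, w, hw⟩ := hclear z
    have h1 : algebraMap R F (τ w) = 0 := by
      have h2 : Φ (Algebra.TensorProduct.map (AlgHom.id P P) (IsScalarTower.toAlgHom C T N) w) = algebraMap R F (τ w) := by
        clear hw
        induction w using TensorProduct.induction_on with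
        | zero => simp
        | add a b ha hb => simp only [map_add, ha, hb]
        | tmul p t =>
          rw [Algebra.TensorProduct.map_tmul, hΦ, hτ, map_mul, ← IsScalarTower.algebraMap_apply]
          exact congrArg (_ * ·) (hjK t)
      rw [← h2, ← hw, map_mul, hz, mul_zero]
    rw [(map_eq_zero_iff _ (IsFractionRing.injective R F))] at h1
    rw [(map_eq_zero_iff _ hτinj).1 h1, map_zero] at hw
    have hreg : Function.Injective (LinearMap.mulLeft C (algebraMap T N s)) := fun x y hxy => by
      refine mul_left_cancel₀ ?_ hxy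
      exact fun h0 => hs ((IsFractionRing.injective T K) ((congrArg Subtype.val h0).trans (map_zero _).symm))
    refine Module.Flat.lTensor_preserves_injective_linearMap (M := P) _ hreg ?_
    rw [map_zero, ← hw]
    clear hz h1 hw
    induction z using TensorProduct.induction_on with
    | zero => simp
    | add a b ha hb => simp only [map_add, mul_add, ha, hb]
    | tmul p x => simp [Algebra.TensorProduct.tmul_mul_tmul]
  let Φ' : P ⊗[C] N →ₐ[P] B :=
    Φ.codRestrict (B.restrictScalars P) hΦB
  have hΦ' : Function.Bijective Φ' := ⟨fun x y h => hΦinj (congrArg Subtype.val h), fun z => by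
    obtain ⟨w, hw⟩ := hΦsurj z.1 z.2
    exact ⟨w, Subtype.ext hw⟩⟩
  haveI : Algebra.Smooth P B := hsm
  haveI : Algebra.Smooth P (P ⊗[C] N) := Algebra.Smooth.of_equiv (AlgEquiv.ofBijective Φ' hΦ').symm
  haveI : Algebra.FiniteType C T := Algebra.FiniteType.of_surjective φ hφ
  haveI : Module.Finite T N := NormFinLib.finite_integralClosure_of_finiteType_field C T K K
  haveI : Algebra.FiniteType C N := Algebra.FiniteType.trans ‹Algebra.FiniteType C T› (Module.Finite.finiteType N : Algebra.FiniteType T N)
  exact Algebra.Smooth.of_smooth_tensorProduct_of_faithfullyFlat P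

/-- Over a large finite subextension the normalization of the reduction is smooth. -/
theorem exists_smooth :
    ∃ C₀ : IntermediateField k P, FiniteDimensional k C₀ ∧ ∀ C : IntermediateField k P, C₀ ≤ C →
      ∀ (T : Type u) [CommRing T] [Algebra C T] (φ : (C ⊗[k] A) →ₐ[C] T), Function.Surjective φ →
        RingHom.ker φ = nilradical (C ⊗[k] A) → IsDomain T ∧
          ∀ (K : Type u) [Field K] [Algebra T K] [IsFractionRing T K] [Algebra C K] [IsScalarTower C T K],
            Algebra.Smooth C (integralClosure T K) := by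
  let R := Red (k := k) P A
  haveI := (smooth_integralClosure_red (k := k) P A).1
  haveI : IsNoetherianRing (P ⊗[k] A) := Algebra.FiniteType.isNoetherianRing P _
  obtain ⟨C₁, hC₁, hgood⟩ := exists_good (k := k) (P := P) A (IsNoetherian.noetherian _)
  obtain ⟨n, b, hb⟩ := Module.Finite.exists_fin (R := R) (M := integralClosure R (FractionRing R))
  choose u v hv huv using fun i => IsFractionRing.div_surjective R (b i : FractionRing R)
  choose u₀ hu₀ using fun i => Ideal.Quotient.mk_surjective (u i)
  choose v₀ hv₀ using fun i => Ideal.Quotient.mk_surjective (v i)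
  choose D hD hDz using fun z : P ⊗[k] A => exists_mem_range_incl P A z
  haveI := hC₁
  haveI := hD
  refine ⟨C₁ ⊔ ((⨆ i, D (u₀ i)) ⊔ ⨆ i, D (v₀ i)), inferInstance, fun C hle T _ _ φ hφ hker => ?_⟩
  have hlift : ∀ z : P ⊗[k] A, D z ≤ C → ∃ w, incl (k := k) P C A w = z := fun z hz => by
    obtain ⟨w, hw⟩ := hDz z
    refine ⟨Algebra.TensorProduct.map (IntermediateField.inclusion hz) (AlgHom.id k A) w, ?_⟩
    rw [← AlgHom.comp_apply, incl, ← Algebra.TensorProduct.map_comp]
    exact hw
  exact smooth_of_level P A (hgood.mono (le_sup_left.trans hle)) b hb u₀ v₀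
    (fun i => by rw [hu₀, hv₀]; exact huv i)
    (fun i => hlift _ ((le_iSup (fun i => D (u₀ i)) i).trans (le_sup_left.trans (le_sup_right.trans hle))))
    (fun i => hlift _ ((le_iSup (fun i => D (v₀ i)) i).trans (le_sup_right.trans (le_sup_right.trans hle))))
    T φ hφ hker

/-- Version for a finite family. -/
theorem exists_smooth_family {ι : Type*} [Finite ι] (A : ι → Type u) [∀ i, CommRing (A i)] [∀ i, IsDomain (A i)]
    [∀ i, Algebra k (A i)] [∀ i, Algebra.FiniteType k (A i)] [∀ i, Ring.KrullDimLE 1 (A i)] :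
    ∃ C : IntermediateField k P, FiniteDimensional k C ∧
      ∀ i (T : Type u) [CommRing T] [Algebra C T] (φ : (C ⊗[k] A i) →ₐ[C] T), Function.Surjective φ →
        RingHom.ker φ = nilradical (C ⊗[k] A i) → IsDomain T ∧
          ∀ (K : Type u) [Field K] [Algebra T K] [IsFractionRing T K] [Algebra C K] [IsScalarTower C T K],
            Algebra.Smooth C (integralClosure T K) := by
  choose C hC hsm using fun i => exists_smooth (k := k) P (A i)
  haveI := hC
  exact ⟨⨆ i, C i, IntermediateField.finiteDimensional_iSup_of_finite, fun i => hsm i _ (le_iSup C i)⟩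

end InsepNormLib
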