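import Groth.Agent.InsepNormLib.Alg
import Groth.Agent.PushFunLib.Main
import Groth.Agent.AlgSpLib.QAffDescent
import Groth.Agent.GeomRedFieldLib.Reduction
import Groth.Agent.GeomIrrLib.Basic
import Groth.Agent.NormDimOneLib.Chart
import Groth.Prelude.Def_Curv2

/-!
# The normalization of the reduced base change of a curve to a large purely inseparable extension
-/

set_option autoImplicit false
set_option linter.style.haveILetI false
universe u

open CategoryTheory CategoryTheory.Limits AlgebraicGeometry TopologicalSpace TensorProduct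

noncomputable section

namespace InsepNormLib

variable {k : Type u} [Field k] {X : Scheme.{u}} [X.Over (Spec (CommRingCat.of k))]

/-- The scalars on the sections over an open. -/
@[reducible] def kAlg {R : Type u} [CommRing R] {Y : Scheme.{u}} (t : Y ⟶ Spec (CommRingCat.of R)) (V : Y.Opens) :
    Algebra R Γ(Y, V) :=
  ((Scheme.ΓSpecIso (CommRingCat.of R)).inv ≫ t.appLE ⊤ V le_top).hom.toAlgebra

variable (C : Type u) [Field C] [Algebra k C]

theorem exists_chart_equiv (U : X.affineOpens) :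
    letI := kAlg (X ↘ Spec (CommRingCat.of k)) U.1
    letI := kAlg (Curv2.bcSnd k X C) (Curv2.bcFst k X C ⁻¹ᵁ U.1)
    ∃ e : C ⊗[k] Γ(X, U.1) ≃+* Γ(Curv2.bc k X C, Curv2.bcFst k X C ⁻¹ᵁ U.1),
      ∀ c : C, e (c ⊗ₜ 1) = algebraMap C Γ(Curv2.bc k X C, Curv2.bcFst k X C ⁻¹ᵁ U.1) c := by
  let s := X ↘ Spec (CommRingCat.of k)
  let g := Spec.map (CommRingCat.ofHom (algebraMap k C))
  let p := Curv2.bcFst k X C
  let q := Curv2.bcSnd k X C
  letI := kAlg s U.1
  letI := kAlg q (p ⁻¹ᵁ U.1)
  haveI : IsAffineHom g := inferInstance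
  haveI : IsAffineHom p := MorphismProperty.pullback_fst _ _ ‹_›
  have h := Groth.Agent.PushFun.isPushout_appLE (IsPullback.of_hasPullback s g) (isAffineOpen_top (Spec (CommRingCat.of k)))
    U.2 le_top (isAffineOpen_top (Spec (CommRingCat.of C))) (Scheme.Hom.preimage_top g).symm
    (U.2.preimage p) rfl le_top
  have h' : IsPushout (CommRingCat.ofHom (algebraMap k C)) ((Scheme.ΓSpecIso (CommRingCat.of k)).inv ≫ s.appLE ⊤ U.1 le_top)
      ((Scheme.ΓSpecIso (CommRingCat.of C)).inv ≫ q.appLE ⊤ (p ⁻¹ᵁ U.1) le_top) (p.appLE U.1 (p ⁻¹ᵁ U.1) le_rfl) :=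
    h.flip.of_iso (Scheme.ΓSpecIso (CommRingCat.of k)) (Scheme.ΓSpecIso (CommRingCat.of C)) (Iso.refl _) (Iso.refl _)
      (by
        rw [show g.appLE ⊤ ⊤ (Scheme.Hom.preimage_top g).symm.le = g.appTop from (Scheme.Hom.app_eq_appLE g).symm]
        exact Scheme.ΓSpecIso_naturality (CommRingCat.ofHom (algebraMap k C)))
      (by rw [Iso.refl_hom, Category.comp_id, Iso.hom_inv_id_assoc])
      (by rw [Iso.refl_hom, Category.comp_id, Iso.hom_inv_id_assoc]) (by simp only [Iso.refl_hom, Category.comp_id, Category.id_comp]; rfl)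
  obtain ⟨e, he⟩ := AlgSpLib.exists_tensor_equiv (R := k) (S := C) (R' := Γ(X, U.1)) h' rfl rfl
  exact ⟨e, fun c => (he c 1).trans (by rw [map_one, mul_one]; rfl)⟩

theorem isIntegral_red [IsIntegral X] [FiniteDimensional k C] [IsPurelyInseparable k C] :
    IsIntegral (Curv2.bc k X C).nilradical.subscheme := by
  let g := Spec.map (CommRingCat.ofHom (algebraMap k C))
  let p := Curv2.bcFst k X C
  let ι := (Curv2.bc k X C).nilradical.subschemeι
  haveI : IsFinite g := (IsFinite.SpecMap_iff _).2 (RingHom.finite_algebraMap.2 inferInstance)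
  haveI : UniversallyInjective g := GeomIrrLib.universallyInjective_specMap k C
  haveI : Surjective g := ⟨fun x => ⟨IsLocalRing.closedPoint C, Subsingleton.elim (α := PrimeSpectrum k) _ _⟩⟩
  haveI : IsFinite p := MorphismProperty.pullback_fst _ _ ‹IsFinite g›
  haveI : UniversallyInjective p := MorphismProperty.pullback_fst _ _ ‹UniversallyInjective g›
  haveI : Surjective p := MorphismProperty.pullback_fst _ _ ‹Surjective g›
  haveI := GeomRedFieldLib.surjective_nilradical (Curv2.bc k X C)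
  have hι : IsHomeomorph ι :=
    isHomeomorph_iff_isEmbedding_surjective.mpr ⟨ι.isClosedEmbedding.isEmbedding, ι.surjective⟩
  have hp : IsHomeomorph p := isHomeomorph_iff_continuous_isClosedMap_bijective.2
    ⟨p.continuous, p.isClosedMap, p.injective, p.surjective⟩
  haveI : IrreducibleSpace (Curv2.bc k X C).nilradical.subscheme :=
    (hι.homeomorph.trans hp.homeomorph).irreducibleSpace_iff.2 inferInstance
  haveI := GeomRedFieldLib.isReduced_nilradical (Curv2.bc k X C)
  exact isIntegral_of_irreducibleSpace_of_isReduced _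

set_option maxHeartbeats 1000000 in
theorem smooth_normalization_red [IsIntegral (Curv2.bc k X C).nilradical.subscheme]
    [QuasiCompact ((Curv2.bc k X C).nilradical.subscheme.fromSpecStalk
      (genericPoint (Curv2.bc k X C).nilradical.subscheme))]
    [QuasiSeparated ((Curv2.bc k X C).nilradical.subscheme.fromSpecStalk
      (genericPoint (Curv2.bc k X C).nilradical.subscheme))]
    {ι' : Type u} (U : ι' → X.affineOpens) (hU : ⨆ i, (U i).1 = ⊤) (hne : ∀ i, Nonempty (U i).1)
    (hC : ∀ i, letI := kAlg (X ↘ Spec (CommRingCat.of k)) (U i).1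
      ∀ (T : Type u) [CommRing T] [Algebra C T] (φ : (C ⊗[k] Γ(X, (U i).1)) →ₐ[C] T), Function.Surjective φ →
        RingHom.ker φ = nilradical (C ⊗[k] Γ(X, (U i).1)) → IsDomain T ∧
          ∀ (K : Type u) [Field K] [Algebra T K] [IsFractionRing T K] [Algebra C K] [IsScalarTower C T K],
            Algebra.Smooth C (integralClosure T K)) :
    Smooth (Curv2.normalizationι (Curv2.bc k X C).nilradical.subscheme ≫
      (Curv2.bc k X C).nilradical.subschemeι ≫ Curv2.bcSnd k X C) := by
  let s := X ↘ Spec (CommRingCat.of k)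
  let g := Spec.map (CommRingCat.ofHom (algebraMap k C))
  let p := Curv2.bcFst k X C
  let q := Curv2.bcSnd k X C
  let J := (Curv2.bc k X C).nilradical
  let ι := J.subschemeι
  let Z := J.subscheme
  let ν := Curv2.normalizationι Z
  haveI : IsAffineHom g := inferInstance
  haveI : IsAffineHom p := MorphismProperty.pullback_fst _ _ ‹_›
  haveI : Surjective g := ⟨fun x => ⟨IsLocalRing.closedPoint C, Subsingleton.elim (α := PrimeSpectrum k) _ _⟩⟩
  haveI : Surjective p := MorphismProperty.pullback_fst _ _ ‹Surjective g›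
  haveI := GeomRedFieldLib.surjective_nilradical (Curv2.bc k X C)
  haveI : IsIntegralHom ν := inferInstanceAs (IsIntegralHom (Z.fromSpecStalk (genericPoint Z)).fromNormalization)
  let W : ι' → Z.affineOpens := fun i => ⟨ι ⁻¹ᵁ (p ⁻¹ᵁ (U i).1), ((U i).2.preimage p).preimage ι⟩
  let V : ι' → (Curv2.normalization Z).affineOpens := fun i => ⟨ν ⁻¹ᵁ (W i).1, (W i).2.preimage ν⟩
  have hV : ⨆ i, (V i).1 = ⊤ := by
    simp only [V, W]
    rw [← Scheme.Hom.preimage_iSup, ← Scheme.Hom.preimage_iSup, ← Scheme.Hom.preimage_iSup, hU]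
    rfl
  refine HasRingHomProperty.of_iSup_eq_top (P := @Smooth) V hV fun i => ?_
  letI := kAlg s (U i).1
  letI := kAlg q (p ⁻¹ᵁ (U i).1)
  letI algT := kAlg (ι ≫ q) (W i).1
  obtain ⟨e, he⟩ := exists_chart_equiv (k := k) C (U i)
  let T := Γ(Z, (W i).1)
  let V₀ : (Curv2.bc k X C).affineOpens := ⟨p ⁻¹ᵁ (U i).1, (U i).2.preimage p⟩
  have hcomp : q.appLE ⊤ V₀.1 le_top ≫ ι.app V₀.1 = (ι ≫ q).appLE ⊤ (W i).1 le_top := by
    rw [Scheme.Hom.app_eq_appLE, Scheme.Hom.appLE_comp_appLE]
  let φ : (C ⊗[k] Γ(X, (U i).1)) →ₐ[C] T :=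
    { toRingHom := (ι.app V₀.1).hom.comp e.toRingHom
      commutes' := fun c => by
        show ι.app V₀.1 (e (c ⊗ₜ 1)) = ((Scheme.ΓSpecIso (CommRingCat.of C)).inv ≫ (ι ≫ q).appLE ⊤ (W i).1 le_top) c
        rw [he, ← hcomp]
        rfl }
  have hφ : Function.Surjective φ := (J.subschemeι_app_surjective V₀).comp e.surjective
  have hker : RingHom.ker φ = nilradical (C ⊗[k] Γ(X, (U i).1)) := by
    ext z
    rw [RingHom.mem_ker, mem_nilradical, ← IsNilpotent.map_iff e.injective]
    show ι.app V₀.1 (e z) = 0 ↔ _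
    rw [← RingHom.mem_ker, J.ker_subschemeι_app V₀]
    show e z ∈ ((⊥ : (Curv2.bc k X C).IdealSheafData).ideal V₀).radical ↔ _
    rw [Scheme.IdealSheafData.ideal_bot]
    exact mem_nilradical
  obtain ⟨hdom, hsm⟩ := hC i T φ hφ hker
  haveI := hdom
  haveI : Nonempty (W i).1 := by
    obtain ⟨⟨x, hx⟩⟩ := hne i
    obtain ⟨y, rfl⟩ := p.surjective x
    obtain ⟨z, rfl⟩ := ι.surjective y
    exact ⟨⟨z, hx⟩⟩
  obtain ⟨ψ, hψ, hψa, -, hψr⟩ := NormDimOneLib.exists_chart Z (W i)
  let K := Z.functionField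
  letI : Algebra T K := (Z.germToFunctionField (W i).1).hom.toAlgebra
  haveI : IsFractionRing T K := functionField_isFractionRing_of_isAffineOpen Z _ (W i).2
  letI : Algebra C K := ((algebraMap T K).comp (algebraMap C T)).toAlgebra
  haveI : IsScalarTower C T K := IsScalarTower.of_algebraMap_eq fun _ => rfl
  haveI := hsm K
  let N := integralClosure T K
  have hint : ∀ n, ψ n ∈ N := fun n => by
    obtain ⟨P, hP, hPn⟩ := ν.isIntegral_app _ (W i).2 n
    refine ⟨P, hP, ?_⟩
    have h1 := congrArg ψ hPn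
    rw [map_zero, Polynomial.hom_eval₂] at h1
    rwa [show ψ.comp (ν.app (W i).1).hom = algebraMap T K from RingHom.ext hψa] at h1
  have hεb : Function.Bijective (ψ.codRestrict N.toSubring hint) :=
    ⟨fun a b h => hψ (congrArg Subtype.val h), fun z => by
      obtain ⟨a, ha⟩ := hψr z.1 z.2
      exact ⟨a, Subtype.ext ha⟩⟩
  let ε := RingEquiv.ofBijective _ hεb
  have hN : (algebraMap C N).Smooth := RingHom.smooth_algebraMap.2 inferInstance
  have heq : ((ν ≫ ι ≫ q).appLE ⊤ (V i).1 le_top).hom =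
      (ε.symm.toRingHom.comp (algebraMap C N)).comp (Scheme.ΓSpecIso (CommRingCat.of C)).hom.hom := by
    refine RingHom.ext fun c => ε.injective ?_
    simp only [RingHom.comp_apply, RingEquiv.toRingHom_eq_coe, RingEquiv.coe_toRingHom, RingEquiv.apply_symm_apply]
    refine Subtype.ext ?_
    show ψ ((ν ≫ ι ≫ q).appLE ⊤ (V i).1 le_top c) = algebraMap T K
      ((ι ≫ q).appLE ⊤ (W i).1 le_top ((Scheme.ΓSpecIso (CommRingCat.of C)).inv ((Scheme.ΓSpecIso (CommRingCat.of C)).hom c)))
    rw [show (ν ≫ ι ≫ q).appLE ⊤ (V i).1 le_top = (ι ≫ q).appLE ⊤ (W i).1 le_top ≫ ν.app (W i).1 by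
      rw [Scheme.Hom.app_eq_appLE, Scheme.Hom.appLE_comp_appLE]]
    rw [CommRingCat.comp_apply, ← CommRingCat.comp_apply (Scheme.ΓSpecIso (CommRingCat.of C)).hom, Iso.hom_inv_id,
      CommRingCat.id_apply]
    exact hψa _
  rw [heq]
  refine RingHom.Smooth.stableUnderComposition _ _ ?_
    (RingHom.Smooth.stableUnderComposition _ _ hN ?_)
  · exact RingHom.Smooth.holdsForLocalizationAway.of_bijective _ _
      (ConcreteCategory.bijective_of_isIso (Scheme.ΓSpecIso (CommRingCat.of C)).hom)
  · exact RingHom.Smooth.holdsForLocalizationAway.of_bijective _ _ ε.symm.bijective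

theorem exists_affine_cover [CompactSpace X] :
    ∃ (ι' : Type u) (_ : Finite ι') (U : ι' → X.affineOpens), ⨆ i, (U i).1 = ⊤ ∧ ∀ i, Nonempty (U i).1 := by
  have h : ∀ x : X, ∃ U : X.affineOpens, x ∈ U.1 := fun x => by
    obtain ⟨U, hU, hx, -⟩ := exists_isAffineOpen_mem_and_subset (x := x) (U := ⊤) trivial
    exact ⟨⟨U, hU⟩, hx⟩
  choose U hU using h
  obtain ⟨t, ht⟩ := isCompact_univ.elim_finite_subcover (fun x : X => ((U x).1 : Set X)) (fun x => (U x).1.2)
    (fun x _ => Set.mem_iUnion.2 ⟨x, hU x⟩)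
  refine ⟨{x // x ∈ t}, inferInstance, fun x => U x.1, eq_top_iff.2 fun x _ => ?_, fun x => ⟨⟨x.1, hU x.1⟩⟩⟩
  obtain ⟨y, hy, hxy⟩ := Set.mem_iUnion₂.1 (ht (Set.mem_univ x))
  exact Opens.mem_iSup.2 ⟨⟨y, hy⟩, hxy⟩

/-- A finite purely inseparable extension smooths the normalization of the reduced base change of a curve. -/
theorem exists_insep_smooth [IsIntegral X] [LocallyOfFiniteType (X ↘ Spec (CommRingCat.of k))]
    [QuasiCompact (X ↘ Spec (CommRingCat.of k))] (hdim : topologicalKrullDim X ≤ 1) :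
    ∃ (k' : Type u) (_ : Field k') (_ : Algebra k k'), FiniteDimensional k k' ∧ IsPurelyInseparable k k' ∧
      ∃ (_ : IsIntegral (Curv2.bc k X k').nilradical.subscheme)
        (_ : QuasiCompact ((Curv2.bc k X k').nilradical.subscheme.fromSpecStalk
              (genericPoint (Curv2.bc k X k').nilradical.subscheme)))
        (_ : QuasiSeparated ((Curv2.bc k X k').nilradical.subscheme.fromSpecStalk
              (genericPoint (Curv2.bc k X k').nilradical.subscheme))),
        Smooth (Curv2.normalizationι (Curv2.bc k X k').nilradical.subscheme ≫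
          (Curv2.bc k X k').nilradical.subschemeι ≫ Curv2.bcSnd k X k') := by
  let s := X ↘ Spec (CommRingCat.of k)
  haveI : CompactSpace X := QuasiCompact.compactSpace_of_compactSpace s
  obtain ⟨ι', _, U, hU, hne⟩ := exists_affine_cover (X := X)
  haveI := hne
  letI alg : ∀ i, Algebra k Γ(X, (U i).1) := fun i => kAlg s (U i).1
  haveI : ∀ i, Algebra.FiniteType k Γ(X, (U i).1) := fun i => by
    show ((Scheme.ΓSpecIso (CommRingCat.of k)).inv ≫ s.appLE ⊤ (U i).1 le_top).hom.FiniteType
    exact (s.finiteType_appLE (isAffineOpen_top _) (U i).2 le_top).comp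
      (RingHom.FiniteType.of_surjective _ (ConcreteCategory.bijective_of_isIso (Scheme.ΓSpecIso (CommRingCat.of k)).inv).2)
  haveI : ∀ i, Ring.KrullDimLE 1 Γ(X, (U i).1) := fun i => by
    rw [Ring.krullDimLE_iff, ← PrimeSpectrum.topologicalKrullDim_eq_ringKrullDim]
    exact ((U i).2.fromSpec.isOpenEmbedding.isInducing.topologicalKrullDim_le).trans hdim
  let P := perfectClosure k (AlgebraicClosure k)
  obtain ⟨C, hC, hsm⟩ := exists_smooth_family (k := k) P (fun i => Γ(X, (U i).1))
  haveI := hC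
  haveI : IsPurelyInseparable k C := IsPurelyInseparable.tower_bot k C P
  haveI hint := isIntegral_red (k := k) (X := X) C
  haveI : LocallyOfFiniteType (Curv2.bcSnd k X C) := MorphismProperty.pullback_snd _ _ ‹LocallyOfFiniteType s›
  haveI : IsLocallyNoetherian (Curv2.bc k X C).nilradical.subscheme :=
    LocallyOfFiniteType.isLocallyNoetherian ((Curv2.bc k X C).nilradical.subschemeι ≫ Curv2.bcSnd k X C)
  haveI hqc : QuasiCompact ((Curv2.bc k X C).nilradical.subscheme.fromSpecStalk
      (genericPoint (Curv2.bc k X C).nilradical.subscheme)) := inferInstance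
  haveI hqs : QuasiSeparated ((Curv2.bc k X C).nilradical.subscheme.fromSpecStalk
      (genericPoint (Curv2.bc k X C).nilradical.subscheme)) := inferInstance
  exact ⟨C, inferInstance, inferInstance, hC, inferInstance, hint, hqc, hqs,
    smooth_normalization_red (k := k) C U hU hne hsm⟩

end InsepNormLib
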